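import Groth.Prelude.Def_GLin
import Groth.Agent.H66.Integral
import Mathlib.RingTheory.IntegralClosure.IntegrallyClosed
import Mathlib.RingTheory.Ideal.Quotient.Operations
import Mathlib.RingTheory.Flat.Basic
import Mathlib.RingTheory.TensorProduct.Free

/-!
# Equalizers of maps out of finite products of normal domains

If ring maps out of a finite product of integrally closed domains send nonzerodivisors to
nonzerodivisors, their equalizer is again a finite product of integrally closed domains.
-/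

set_option autoImplicit false

universe u v w

open TensorProduct

namespace Groth.Agent.Lib.InvNormal.Basic

section Tensor

variable {k : Type u} [CommRing k] (H : Type v) [CommRing H] [Algebra k H] [Module.Flat k H]
  {S : Type w} [CommRing S] [Algebra k S]

lemma tmul_one_mem_nonZeroDivisors {s : S} (hs : s ∈ nonZeroDivisors S) :
    s ⊗ₜ[k] (1 : H) ∈ nonZeroDivisors (S ⊗[k] H) := by
  rw [mem_nonZeroDivisors_iff_left]
  have hinj : Function.Injective ((LinearMap.mulLeft k s).rTensor H) := by
    refine Module.Flat.rTensor_preserves_injective_linearMap _ fun a b h => ?_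
    exact (mul_cancel_left_mem_nonZeroDivisors hs).mp h
  intro y hy
  refine hinj ?_
  rw [map_zero, ← hy]
  clear hy
  induction y using TensorProduct.induction_on with
  | zero => simp
  | tmul a b => simp [Algebra.TensorProduct.tmul_mul_tmul]
  | add a b ha hb => simp only [mul_add, map_add, ha, hb]

end Tensor

section Hopf

variable {k : Type u} [CommRing k] {H : Type v} [CommRing H] [HopfAlgebra k H] [Module.Flat k H]
  {S : Type w} [CommRing S] [Algebra k S] [HopfRep.Comod k H S] [GLin.IsCoactAlg k H S]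

lemma lift_eq_shear (y : S ⊗[k] H) :
    Algebra.TensorProduct.lift (GLin.coactAlgHom k H S) Algebra.TensorProduct.includeRight
        (fun _ _ => Commute.all _ _) y = Groth.Agent.H66.Integral.shear S LinearMap.id y := by
  induction y using TensorProduct.induction_on with
  | zero => simp
  | tmul r a =>
    rw [Algebra.TensorProduct.lift_tmul, Groth.Agent.H66.Integral.shear_tmul,
      LinearMap.lTensor_id_apply, GLin.coactAlgHom_apply]
    induction HopfRep.Comod.coact (k := k) (A := H) r using TensorProduct.induction_on with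
    | zero => simp
    | tmul c d => simp [Algebra.TensorProduct.tmul_mul_tmul]
    | add c d hc hd => simp only [add_mul, map_add, hc, hd]
  | add a b ha hb => simp only [map_add, ha, hb]

lemma coact_mem_nonZeroDivisors {s : S} (hs : s ∈ nonZeroDivisors S) :
    GLin.coactAlgHom k H S s ∈ nonZeroDivisors (S ⊗[k] H) := by
  let T : S ⊗[k] H →ₐ[k] S ⊗[k] H :=
    Algebra.TensorProduct.lift (GLin.coactAlgHom k H S) Algebra.TensorProduct.includeRight
      fun _ _ => Commute.all _ _
  have hbij : Function.Bijective T := by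
    refine ⟨fun a b hab => ?_, fun b => ⟨Groth.Agent.H66.Integral.shearInv S b, ?_⟩⟩
    · rw [lift_eq_shear, lift_eq_shear] at hab
      rw [← Groth.Agent.H66.Integral.shearInv_shear a, hab,
        Groth.Agent.H66.Integral.shearInv_shear]
    · rw [lift_eq_shear, Groth.Agent.H66.Integral.shear_shearInv]
  have h1 : T (s ⊗ₜ[k] (1 : H)) = GLin.coactAlgHom k H S s := by
    simp only [T, Algebra.TensorProduct.lift_tmul, map_one, mul_one]
  rw [← h1, mem_nonZeroDivisors_iff_left]
  intro y hy
  obtain ⟨z, rfl⟩ := hbij.2 y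
  rw [← map_mul, ← map_zero T] at hy
  rw [mem_nonZeroDivisors_iff_left.mp (tmul_one_mem_nonZeroDivisors H hs) z (hbij.1 hy), map_zero]

end Hopf

section Prod

variable {ι : Type u} [Fintype ι] {D : ι → Type u} [∀ i, CommRing (D i)] [∀ i, IsDomain (D i)]
  {R : Type v} [CommRing R] {F : Set ((Π i, D i) →+* R)}
  {A : Subring (Π i, D i)}

lemma mem_nonZeroDivisors_pi {s : Π i, D i} (hs : ∀ i, s i ≠ 0) :
    s ∈ nonZeroDivisors (Π i, D i) :=
  mem_nonZeroDivisors_iff_left.mpr fun x hx => funext fun i =>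
    (mul_eq_zero.mp (congrFun hx i)).resolve_left (hs i)

/-- the indicator of the support of `a` -/
noncomputable def supp (a : Π i, D i) : Π i, D i := by
  classical exact fun i => if a i = 0 then 0 else 1

lemma supp_mem (hF : ∀ f ∈ F, ∀ s ∈ nonZeroDivisors (Π i, D i), f s ∈ nonZeroDivisors R)
    (hA : ∀ a, a ∈ A ↔ ∀ f ∈ F, ∀ f' ∈ F, f a = f' a) {a : Π i, D i} (ha : a ∈ A) :
    supp a ∈ A := by
  classical
  rw [hA]
  intro f hf f' hf'
  have hae : a * supp a = a := funext fun i => by
    by_cases h : a i = 0 <;> simp [supp, h]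
  have hfe : ∀ g ∈ F, g a * g (supp a) = g a := fun g _ => by rw [← map_mul, hae]
  have hnz : a + (1 - supp a) ∈ nonZeroDivisors (Π i, D i) := mem_nonZeroDivisors_pi fun i => by
    by_cases h : a i = 0 <;> simp [supp, h]
  have hid : ∀ g : (Π i, D i) →+* R, g (supp a) * g (supp a) = g (supp a) := fun g => by
    rw [← map_mul]; congr 1; funext i
    by_cases h : a i = 0 <;> simp [supp, h]
  have key : ∀ g ∈ F, ∀ x, g a * x = 0 → g (supp a) * x = 0 := fun g hg x hx => by
    refine (mem_nonZeroDivisors_iff_left.mp (hF g hg _ hnz)) _ ?_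
    rw [map_add, map_sub, map_one, add_mul, ← mul_assoc, hfe g hg, hx, zero_add, ← mul_assoc,
      sub_mul, one_mul, hid, sub_self, zero_mul]
  have heq : f a = f' a := (hA a).mp ha f hf f' hf'
  have h1 : f (supp a) * (1 - f' (supp a)) = 0 :=
    key f hf _ (by rw [mul_sub, mul_one, heq, hfe f' hf', sub_self])
  have h2 : f' (supp a) * (1 - f (supp a)) = 0 :=
    key f' hf' _ (by rw [mul_sub, mul_one, ← heq, hfe f hf, sub_self])
  rw [mul_sub, mul_one, sub_eq_zero] at h1 h2
  exact h1.trans ((mul_comm _ _).trans h2.symm)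

lemma mem_of_mul_mem (hF : ∀ f ∈ F, ∀ s ∈ nonZeroDivisors (Π i, D i), f s ∈ nonZeroDivisors R)
    (hA : ∀ a, a ∈ A ↔ ∀ f ∈ F, ∀ f' ∈ F, f a = f' a) {b x : Π i, D i}
    (hb0 : ∀ i, b i ≠ 0) (hb : b ∈ A) (hbx : b * x ∈ A) : x ∈ A := by
  rw [hA]
  intro f hf f' hf'
  have h1 := (hA _).mp hbx f hf f' hf'
  rw [map_mul, map_mul, ← (hA b).mp hb f hf f' hf'] at h1
  exact (mul_cancel_left_mem_nonZeroDivisors (hF f hf _ (mem_nonZeroDivisors_pi hb0))).mp h1

theorem exists_pi_equiv [∀ i, IsIntegrallyClosed (D i)]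
    (hF : ∀ f ∈ F, ∀ s ∈ nonZeroDivisors (Π i, D i), f s ∈ nonZeroDivisors R)
    (hA : ∀ a, a ∈ A ↔ ∀ f ∈ F, ∀ f' ∈ F, f a = f' a) :
    ∃ (κ : Type u) (_ : Fintype κ) (E : κ → Type u) (_ : ∀ j, CommRing (E j)) (_ : ∀ j, IsDomain (E j))
      (_ : ∀ j, IsIntegrallyClosed (E j)), Nonempty (A ≃+* Π j, E j) := by
  classical
  let π : (i : ι) → A →+* D i := fun i => (Pi.evalRingHom D i).comp A.subtype
  let K : ι → Ideal A := fun i => RingHom.ker (π i)
  let P : Set.range K → Ideal A := fun j => j.1
  haveI : Fintype (Set.range K) := Fintype.ofFinite _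
  haveI hprime : ∀ j, (P j).IsPrime := by
    rintro ⟨_, i, rfl⟩
    exact RingHom.ker_isPrime (π i)
  have hmem : ∀ i (a : A), a ∈ K i ↔ (a : Π i, D i) i = 0 := fun i a => RingHom.mem_ker
  have hcop : Pairwise fun j l => IsCoprime (P j) (P l) := by
    intro j l hjl
    have hne : P j ≠ P l := fun h => hjl (Subtype.ext h)
    obtain ⟨_, i, rfl⟩ := j
    obtain ⟨_, m, rfl⟩ := l
    rw [Ideal.isCoprime_iff_add, Ideal.one_eq_top, Submodule.add_eq_sup, Ideal.eq_top_iff_one]
    change K i ≠ K m at hne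
    change (1 : A) ∈ K i ⊔ K m
    have key : ∀ i m, ∀ a : A, a ∈ K i → a ∉ K m → (1 : A) ∈ K i ⊔ K m := by
      intro i m a hai ham
      let e : A := ⟨supp a.1, supp_mem hF hA a.2⟩
      have he : e ∈ K i := (hmem i e).mpr (by simp [e, supp, (hmem i a).mp hai])
      have he' : 1 - e ∈ K m := (hmem m _).mpr (by
        have := mt (hmem m a).mpr ham
        simp [e, supp, this])
      have h := Submodule.add_mem_sup he he'
      rwa [add_sub_cancel] at h
    by_cases hle : K i ≤ K m
    · obtain ⟨a, ham, hai⟩ := SetLike.exists_of_lt (lt_of_le_of_ne hle hne)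
      rw [sup_comm]; exact key m i a ham hai
    · obtain ⟨a, hai, ham⟩ := SetLike.not_le_iff_exists.mp hle
      exact key i m a hai ham
  have hbot : (⨅ j, P j) = ⊥ := by
    rw [eq_bot_iff]
    intro a ha
    rw [Ideal.mem_bot]
    refine Subtype.ext (funext fun i => ?_)
    exact (hmem i a).mp ((Submodule.mem_iInf _).mp ha ⟨K i, i, rfl⟩)
  refine ⟨Set.range K, inferInstance, fun j => A ⧸ P j, fun j => inferInstance,
    fun j => inferInstance, fun j => ?_,
    ⟨((RingEquiv.quotientBot A).symm.trans (Ideal.quotEquivOfEq hbot.symm)).trans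
      (Ideal.quotientInfRingEquivPiQuotient P hcop)⟩⟩
  rw [isIntegrallyClosed_iff (FractionRing (A ⧸ P j))]
  intro x hx
  obtain ⟨a, b, hb, rfl⟩ := IsFractionRing.div_surjective (A ⧸ P j) x
  obtain ⟨a, rfl⟩ := Ideal.Quotient.mk_surjective a
  obtain ⟨b, rfl⟩ := Ideal.Quotient.mk_surjective b
  have hbP : b ∉ P j := fun h => nonZeroDivisors.ne_zero hb (Ideal.Quotient.eq_zero_iff_mem.mpr h)
  obtain ⟨e, he⟩ : ∃ e : A, ∀ l, Ideal.Quotient.mk (P l) e = if l = j then 1 else 0 := by
    obtain ⟨y, hy⟩ := (Ideal.quotientInfRingEquivPiQuotient P hcop).surjective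
      (fun l => if l = j then 1 else 0)
    obtain ⟨e, rfl⟩ := Ideal.Quotient.mk_surjective y
    exact ⟨e, fun l => congrFun hy l⟩
  have he1 : ∀ i, (e : Π i, D i) i = if (⟨K i, i, rfl⟩ : Set.range K) = j then 1 else 0 := by
    intro i
    have h := he ⟨K i, i, rfl⟩
    split_ifs at h ⊢ with hij
    · rw [← map_one (Ideal.Quotient.mk (P ⟨K i, i, rfl⟩)), Ideal.Quotient.eq] at h
      have := (hmem i _).mp h
      simpa [sub_eq_zero] using this
    · exact (hmem i e).mp (Ideal.Quotient.eq_zero_iff_mem.mp h)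
  let b' : A := b * e + (1 - e)
  have hb0 : ∀ i, (b' : Π i, D i) i ≠ 0 := by
    intro i
    by_cases hij : (⟨K i, i, rfl⟩ : Set.range K) = j
    · have : b ∉ K i := by rw [← hij] at hbP; exact hbP
      have h2 := mt (hmem i b).mpr this
      simp [b', he1 i, hij, h2]
    · simp [b', he1 i, hij]
  have hs : ∀ i, ∃ s : D i, (b' : Π i, D i) i * s = (a * e : A).1 i := by
    intro i
    by_cases hij : (⟨K i, i, rfl⟩ : Set.range K) = j
    · subst hij
      have hinj : Function.Injective (RingHom.kerLift (π i)) := RingHom.kerLift_injective _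
      let φ : A ⧸ P ⟨K i, i, rfl⟩ →+* D i := RingHom.kerLift (π i)
      let Φ : FractionRing (A ⧸ P ⟨K i, i, rfl⟩) →+* FractionRing (D i) :=
        IsFractionRing.map (j := φ) hinj
      have hcomm : ∀ t, Φ (algebraMap _ _ t) = algebraMap _ _ (φ t) := fun t =>
        IsLocalization.map_eq _ t
      have hint : IsIntegral (D i) (Φ (algebraMap _ _ (Ideal.Quotient.mk _ a) /
          algebraMap _ _ (Ideal.Quotient.mk _ b))) :=
        hx.map_of_comp_eq φ Φ (RingHom.ext fun t => (hcomm t).symm)
      obtain ⟨s, hs⟩ := IsIntegrallyClosed.isIntegral_iff.mp hint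
      refine ⟨s, ?_⟩
      rw [map_div₀, hcomm, hcomm] at hs
      have hφb : algebraMap (D i) (FractionRing (D i)) (φ (Ideal.Quotient.mk _ b)) ≠ 0 := by
        refine (map_ne_zero_iff _ (IsFractionRing.injective _ _)).mpr ?_
        exact fun h0 => hbP (Ideal.Quotient.eq_zero_iff_mem.mp (hinj (h0.trans (map_zero φ).symm)))
      rw [eq_div_iff hφb, ← map_mul] at hs
      have h3 : s * (b : Π i, D i) i = (a : Π i, D i) i := IsFractionRing.injective _ _ hs
      simp [b', he1 i, ← h3, mul_comm]
    · exact ⟨0, by simp [he1 i, hij]⟩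
  choose s hs using hs
  have hsA : s ∈ A := by
    refine mem_of_mul_mem hF hA hb0 b'.2 ?_
    rw [show (b' : Π i, D i) * s = (a * e : A).1 from funext hs]
    exact (a * e).2
  refine ⟨Ideal.Quotient.mk _ ⟨s, hsA⟩, ?_⟩
  have h4 : b' * ⟨s, hsA⟩ = a * e := Subtype.ext (funext hs)
  have h5 := congrArg (Ideal.Quotient.mk (P j)) h4
  have he' : Ideal.Quotient.mk (P j) e = 1 := by simpa using he j
  simp only [b', map_mul, map_add, map_sub, map_one, he', mul_one, sub_self, add_zero] at h5
  rw [eq_div_iff (IsFractionRing.to_map_ne_zero_of_mem_nonZeroDivisors hb), ← map_mul, ← h5,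
    mul_comm]

end Prod

end Groth.Agent.Lib.InvNormal.Basic
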